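import Groth.Agent.ConstTorsor.ExtSection
import Groth.Agent.ConstTorsor.Fibres
import Groth.Agent.Pi1Tors.Exact

/-!
# Base change of exact sequences; normalised sections
-/

set_option autoImplicit false
set_option backward.isDefEq.respectTransparency false
set_option synthInstance.maxHeartbeats 200000
set_option maxHeartbeats 1000000
attribute [local instance 10000] CategoryTheory.Hom.group
universe u

open CategoryTheory CategoryTheory.Limits MonoidalCategory CartesianMonoidalCategory MonObj AlgebraicGeometry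

namespace Groth.ConstTorsor.Twisted

open Groth.SGA7 Groth.AlgGrp2

/-- Exact sequences are stable under base change. -/
theorem isExactSeq_bc {S S' : Scheme.{u}} (f : S' ⟶ S) {G E P : Over S} [GrpObj G] [GrpObj E] [GrpObj P]
    {u : G ⟶ E} {v : E ⟶ P} (hex : NonAbH1.IsExactSeq Scheme.fppfPrecoverage u v) :
    NonAbH1.IsExactSeq Scheme.fppfPrecoverage (G' := Red.bc f G) (G := Red.bc f E) (G'' := Red.bc f P)
      ((Over.pullback f).map u) ((Over.pullback f).map v) := by
  have := hex.1
  have := hex.2.1
  have hu : IsMonHom (M := Red.bc f G) (N := Red.bc f E) ((Over.pullback f).map u) := inferInstance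
  have hv : IsMonHom (M := Red.bc f E) (N := Red.bc f P) ((Over.pullback f).map v) := inferInstance
  obtain ⟨R, hR, hsec⟩ := hex.2.2.2.2
  obtain ⟨J, X, g, rfl⟩ := Presieve.exists_eq_ofArrows R
  rw [Scheme.fppfPrecoverage, Scheme.ofArrows_mem_precoverage_iff] at hR
  let pr := pullback.fst P.hom f
  let R' : Presieve (Red.bc f P).left := Presieve.ofArrows (fun i => pullback (g i) pr) fun i => pullback.snd (g i) pr
  have hmem : R' ∈ Scheme.fppfPrecoverage (Red.bc f P).left := by
    rw [Scheme.fppfPrecoverage, Scheme.ofArrows_mem_precoverage_iff]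
    refine ⟨fun y => ?_, fun i => ⟨?_, ?_⟩⟩
    · obtain ⟨i, x, hx⟩ := hR.1 (pr y)
      obtain ⟨z, -, hz⟩ := Scheme.Pullback.exists_preimage_pullback (f := g i) (g := pr) x y hx
      exact ⟨i, z, hz⟩
    · exact MorphismProperty.pullback_snd (P := @Flat) _ _ (hR.2 i).1
    · exact MorphismProperty.pullback_snd (P := @LocallyOfFinitePresentation) _ _ (hR.2 i).2
  have hloc : ∀ ⦃W : Scheme.{u}⦄ (h : W ⟶ (Red.bc f P).left), R' h →
      NonAbH1.HasSectionOver (Over.mk ((Over.pullback f).map v).left : Over (Red.bc f P).left) h := by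
    rintro _ _ ⟨i⟩
    obtain ⟨σ, hσ⟩ := hsec (g i) ⟨i⟩
    replace hσ : σ ≫ v.left = g i := hσ
    refine ⟨pullback.lift (f := E.hom) (g := f) (pullback.fst (g i) pr ≫ σ)
      (pullback.snd (g i) pr ≫ pullback.snd P.hom f) ?_, ?_⟩
    · rw [← Over.w v, Category.assoc, reassoc_of% hσ, pullback.condition_assoc, Category.assoc]
      exact congrArg (pullback.snd (g i) pr ≫ ·) pullback.condition
    · show pullback.lift _ _ _ ≫ ((Over.pullback f).map v).left = pullback.snd (g i) pr
      apply pullback.hom_ext
      · simp only [Over.pullback_map_left, Category.assoc, pullback.lift_fst, pullback.lift_fst_assoc]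
        rw [hσ, pullback.condition]
      · simp only [Over.pullback_map_left, Category.assoc, pullback.lift_snd]
  have hsq : IsPullback (fst (Red.bc f E) (Red.bc f G)) ((Red.bc f E ◁ (Over.pullback f).map u) ≫ μ[Red.bc f E])
      ((Over.pullback f).map v) ((Over.pullback f).map v) := by
    have hlift : ∀ {T : Over S'} (x : T ⟶ Red.bc f E) (k : T ⟶ Red.bc f G),
        lift x k ≫ (Red.bc f E ◁ (Over.pullback f).map u) ≫ μ[Red.bc f E] = x * (k ≫ (Over.pullback f).map u) := fun x k => by
      rw [← Category.assoc, lift_whiskerLeft, Hom.mul_def]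
    have h1 : ∀ {T : Over S'} (k : T ⟶ Red.bc f G), (k ≫ (Over.pullback f).map u) ≫ (Over.pullback f).map v = 1 :=
      fun k => bcPt_injective f (by
        rw [bcPt_comp_map, bcPt_comp_map, Ext.comp_eq_one hex]
        exact (bcPt_one f).symm)
    have hw : fst (Red.bc f E) (Red.bc f G) ≫ (Over.pullback f).map v =
        ((Red.bc f E ◁ (Over.pullback f).map u) ≫ μ[Red.bc f E]) ≫ (Over.pullback f).map v := by
      have h := hlift (fst (Red.bc f E) (Red.bc f G)) (snd _ _)
      rw [lift_fst_snd, Category.id_comp] at h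
      rw [h, MonObj.mul_comp, h1, _root_.mul_one]
    have hex' : ∀ {T : Over S'} (x y : T ⟶ Red.bc f E), x ≫ (Over.pullback f).map v = y ≫ (Over.pullback f).map v →
        ∃ k : T ⟶ Red.bc f G, y = x * (k ≫ (Over.pullback f).map u) := by
      intro T x y h
      obtain ⟨k, hk⟩ := Ext.exists_translate hex (bcPt f x) (bcPt f y) (by rw [← bcPt_comp_map, ← bcPt_comp_map, h])
      exact ⟨bcPtInv f k, bcPt_injective f (by rw [bcPt_mul, bcPt_comp_map, bcPt_bcPtInv, hk])⟩
    refine ⟨⟨hw⟩, ⟨PullbackCone.IsLimit.mk hw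
      (fun c => lift c.fst (hex' c.fst c.snd c.condition).choose)
      (fun c => lift_fst _ _)
      (fun c => by rw [hlift]; exact (hex' c.fst c.snd c.condition).choose_spec.symm)
      (fun c m hm1 hm2 => ?_)⟩⟩
    apply CartesianMonoidalCategory.hom_ext
    · rw [lift_fst, hm1]
    · rw [lift_snd]
      refine bcPt_injective f (Ext.u_injective hex ?_)
      rw [← bcPt_comp_map, ← bcPt_comp_map]
      refine congrArg (bcPt f) (mul_left_cancel (a := c.fst) ?_)
      rw [← (hex' c.fst c.snd c.condition).choose_spec, ← hm2, ← hlift c.fst (m ≫ snd _ _), ← hm1]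
      congr 1
      apply CartesianMonoidalCategory.hom_ext <;> simp
  refine ⟨hu, hv, ?_, hsq, R', hmem, hloc⟩
  rw [← Functor.map_comp, hex.2.2.1, Functor.map_one]

/-- An extension of a smooth group with geometrically connected fibres by a torsion free constant group
has a normalised section. -/
theorem exists_normalized {S : Scheme.{u}} {Z : Type u} [Group Z] (hZ : ∀ z : Z, IsOfFinOrder z → z = 1)
    {G E P : Over S} [GrpObj G] [GrpObj E] [GrpObj P] [Smooth P.hom] [QuasiCompact P.hom]
    [QuasiSeparated P.hom] [GeometricallyConnected P.hom]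
    (eG : G ≅ TwC.const S Z) (hG : TwC.IsConstGrp Z G eG) (u : G ⟶ E) (v : E ⟶ P)
    (hex : NonAbH1.IsExactSeq Scheme.fppfPrecoverage u v) :
    ∃ g : P ⟶ E, g ≫ v = 𝟙 P ∧ η[P] ≫ g = η[E] := by
  have := hex.2.1
  obtain ⟨eb, heb⟩ := exists_bcConst P.hom hG
  obtain ⟨a, ha⟩ := exists_action_of_exact u v hex
  have hf : ∀ s : S, NonAbH1.HasSectionOver (Over.mk v.left : Over P.left)
      (pullback.fst P.hom (S.fromSpecResidueField s)) := fun s => by
    obtain ⟨es, hes⟩ := exists_bcConst (S.fromSpecResidueField s) hG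
    have : Smooth (Red.bc (S.fromSpecResidueField s) P).hom :=
      MorphismProperty.pullback_snd (P := @Smooth) _ _ ‹_›
    obtain ⟨σ, hσ⟩ := exists_section_of_exact (isGeomUnibranch_stalk_spec_field (S.residueField s) (Field.toIsField _))
      hZ es hes _ _ (isExactSeq_bc (S.fromSpecResidueField s) hex)
    refine ⟨σ.left ≫ pullback.fst E.hom (S.fromSpecResidueField s), ?_⟩
    have h : σ.left ≫ ((Over.pullback (S.fromSpecResidueField s)).map v).left = 𝟙 _ := congrArg CommaMorphism.left hσ
    have h' := congrArg (· ≫ pullback.fst P.hom (S.fromSpecResidueField s)) h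
    simp only [Over.pullback_map_left, Category.assoc, pullback.lift_fst, Category.id_comp] at h'
    show (σ.left ≫ pullback.fst E.hom _) ≫ v.left = _
    rw [Category.assoc, h']
  obtain ⟨g, ⟨hg, hge⟩, -⟩ := existsUnique_section a heb P.hom ha hex.2.2.2.2 η[P].left (Over.w η[P]) η[E].left
    (congrArg CommaMorphism.left (IsMonHom.one_hom (f := v))) hf
  refine ⟨Over.homMk g (by rw [← Over.w v, ← Category.assoc, show g ≫ v.left = 𝟙 P.left from hg, Category.id_comp]),
    Over.OverMorphism.ext hg, Over.OverMorphism.ext hge⟩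

end Groth.ConstTorsor.Twisted
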