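import Groth.Agent.Pi1Tors.Points
import Groth.Agent.HTopHyper.Fpqc
import Groth.Prelude.Def_TwC

/-!
# Morphisms on fpqc covers of the base
-/

set_option autoImplicit false
set_option backward.isDefEq.respectTransparency false
universe u

open CategoryTheory CategoryTheory.Limits MonoidalCategory CartesianMonoidalCategory AlgebraicGeometry

namespace Groth.ConstTorsor.Twisted

variable {S : Scheme.{u}}

/-- The sieve of a family of objects over the base. -/
def famSieve {ι : Type u} (C : ι → Over S) : Sieve S where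
  arrows Y g := ∃ (i : ι) (t : Y ⟶ (C i).left), t ≫ (C i).hom = g
  downward_closed := by
    rintro Y Y' g ⟨i, t, rfl⟩ h
    exact ⟨i, h ≫ t, Category.assoc _ _ _⟩

/-- The family covers for the fpqc topology. -/
def IsCover {ι : Type u} (C : ι → Over S) : Prop := famSieve C ∈ Scheme.fpqcTopology S

/-- A property holding fpqc locally holds on a covering family. -/
theorem exists_isCover (P : ∀ (S' : Scheme.{u}), (S' ⟶ S) → Prop)
    (h : TwC.Locally S TwC.Topology.fpqc P) :
    ∃ (ι : Type u) (C : ι → Over S), IsCover C ∧ ∀ i, P (C i).left (C i).hom := by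
  obtain ⟨S', f, hflat, hsurj, hqc, hloc⟩ := h
  choose U hU hP using hloc
  refine ⟨S', fun i => Over.mk ((U i).ι ≫ f), ?_, hP⟩
  let E : PreZeroHypercover.{u} S := PreZeroHypercover.singleton f
  have hE : E.presieve₀ ∈ Scheme.fpqcPrecoverage S := by
    refine (Groth.HTopHyper.mem_fpqcPrecoverage_iff E).mpr ⟨⟨fun {V} hV => ?_⟩, fun t => ?_, fun _ => hflat⟩
    · obtain ⟨W, hW, hWV⟩ := hqc V hV
      exact ⟨Set.univ, Set.finite_univ, fun _ _ => W, fun _ _ => hW,
        (Set.iUnion₂_congr fun _ _ => hWV).trans (by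
          simp only [Set.mem_univ, Set.iUnion_true]
          exact Set.iUnion_const (ι := PUnit) _)⟩
    · obtain ⟨y, hy⟩ := hsurj.surj t
      exact ⟨PUnit.unit, y, hy⟩
  have h1 := Precoverage.generate_mem_toGrothendieck hE
  refine GrothendieckTopology.transitive _ h1 _ fun Y g hg => ?_
  obtain ⟨W, a, b, hb, rfl⟩ := hg
  cases hb with
  | mk j =>
    rw [Sieve.pullback_comp]
    refine Scheme.fpqcTopology.pullback_stable a ?_
    let 𝒰 := S'.openCoverOfIsOpenCover U (.mk (top_le_iff.mp fun x _ => TopologicalSpace.Opens.mem_iSup.mpr ⟨x, hU x⟩))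
    refine GrothendieckTopology.superset_covering _ ?_
      (Scheme.zariskiTopology_le_fpqcTopology _ (Precoverage.generate_mem_toGrothendieck 𝒰.mem₀))
    rintro Y g ⟨W, t, b, hb, rfl⟩
    cases hb with
    | mk i => exact ⟨i, t, (Category.assoc _ _ _).symm⟩

variable {ι : Type u} {C : ι → Over S} (hC : IsCover C)
include hC

/-- Morphisms agreeing on a cover are equal. -/
theorem eq_of_cover {T Z : Over S} {a b : T ⟶ Z}
    (h : ∀ i, fst T (C i) ≫ a = fst T (C i) ≫ b) : a = b := by
  refine Over.OverMorphism.ext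
    (((GrothendieckTopology.Subcanonical.isSheaf_of_isRepresentable (yoneda.obj Z.left))
      _ (Scheme.fpqcTopology.pullback_stable T.hom hC)).isSeparatedFor.ext ?_)
  rintro Y g ⟨i, t, ht⟩
  let Y' : Over S := Over.mk (g ≫ T.hom)
  let g' : Y' ⟶ T := Over.homMk g rfl
  let t' : Y' ⟶ C i := Over.homMk t ht
  have := congrArg (fun z => lift g' t' ≫ z) (h i)
  simp only [lift_fst_assoc] at this
  exact congrArg CommaMorphism.left this

/-- Compatible morphisms on a cover glue. -/
theorem exists_of_cover {T Z : Over S} (a : ∀ i, T ⊗ C i ⟶ Z)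
    (h : ∀ i j, lift (fst T _) (snd T (C i ⊗ C j) ≫ fst (C i) (C j)) ≫ a i =
      lift (fst T _) (snd T (C i ⊗ C j) ≫ snd (C i) (C j)) ≫ a j) :
    ∃ b : T ⟶ Z, ∀ i, fst T (C i) ≫ b = a i := by
  have hR := Scheme.fpqcTopology.pullback_stable T.hom hC
  have key : ∀ (Y : Over S) (i j : ι) (x : Y ⟶ T) (p : Y ⟶ C i) (q : Y ⟶ C j),
      lift x p ≫ a i = lift x q ≫ a j := fun Y i j x p q => by
    have := congrArg (fun z => lift x (lift p q) ≫ z) (h i j)
    simpa only [comp_lift_assoc, lift_fst, lift_snd, lift_fst_assoc, lift_snd_assoc] using this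
  let fam : Presieve.FamilyOfElements (yoneda.obj Z.left) ((famSieve C).pullback T.hom).arrows := fun Y g hg =>
    (lift (Over.homMk g rfl : Over.mk (g ≫ T.hom) ⟶ T)
      (Over.homMk hg.choose_spec.choose hg.choose_spec.choose_spec : Over.mk (g ≫ T.hom) ⟶ C hg.choose) ≫
        a hg.choose).left
  have hfam : ∀ ⦃Y⦄ (g : Y ⟶ T.left) (hg : (famSieve C).pullback T.hom g) (Y' : Over S) (m : Y'.left ⟶ Y)
      (x : Y' ⟶ T) (i : ι) (p : Y' ⟶ C i), x.left = m ≫ g → m ≫ fam g hg = (lift x p ≫ a i).left := by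
    intro Y g hg Y' m x i p hx
    let mm : Y' ⟶ Over.mk (g ≫ T.hom) := Over.homMk m (by rw [← Over.w x, hx]; exact (Category.assoc _ _ _).symm)
    rw [← key Y' hg.choose i x (mm ≫ Over.homMk hg.choose_spec.choose hg.choose_spec.choose_spec) p,
      show x = mm ≫ Over.homMk g rfl from Over.OverMorphism.ext hx, ← comp_lift, Category.assoc]
    rfl
  have hcompat : fam.Compatible := by
    rw [Presieve.compatible_iff_sieveCompatible]
    intro Y Y' g m hg
    have hg' := ((famSieve C).pullback T.hom).downward_closed hg m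
    show fam (m ≫ g) hg' = m ≫ fam g hg
    let x : Over.mk ((m ≫ g) ≫ T.hom) ⟶ T := Over.homMk (m ≫ g) rfl
    exact ((hfam g hg _ m x _ (Over.homMk hg'.choose_spec.choose hg'.choose_spec.choose_spec) rfl).trans rfl).symm
  have hsh := (GrothendieckTopology.Subcanonical.isSheaf_of_isRepresentable (yoneda.obj Z.left)) _ hR
  have hb : ∀ i, (fst T (C i)).left ≫ hsh.amalgamate fam hcompat = (a i).left := fun i => by
    have hg : (famSieve C).pullback T.hom (fst T (C i)).left :=
      ⟨i, (snd T (C i)).left, by rw [Over.w, Over.w]⟩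
    refine (hsh.valid_glue hcompat _ hg).trans ?_
    have := hfam _ hg (T ⊗ C i) (𝟙 _) (fst T (C i)) i (snd T (C i)) (Category.id_comp _).symm
    rw [Category.id_comp] at this
    rw [this, lift_fst_snd, Category.id_comp]
  refine ⟨Over.homMk (hsh.amalgamate fam hcompat) ?_, fun i => Over.OverMorphism.ext (hb i)⟩
  refine ((GrothendieckTopology.Subcanonical.isSheaf_of_isRepresentable (yoneda.obj S))
      _ hR).isSeparatedFor.ext ?_
  intro Y g hg
  show g ≫ hsh.amalgamate fam hcompat ≫ Z.hom = g ≫ T.hom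
  rw [← Category.assoc]
  refine (congrArg (· ≫ Z.hom) (hsh.valid_glue hcompat g hg)).trans ?_
  exact Over.w _

end Groth.ConstTorsor.Twisted
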