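import Groth.Agent.ConstTorsor.Twisted.Cover
import Groth.Agent.ConstTorsor.Twisted.BaseChange

/-!
# Extensions by twisted constant torsion free groups
-/

set_option autoImplicit false
set_option backward.isDefEq.respectTransparency false
set_option synthInstance.maxHeartbeats 200000
set_option maxHeartbeats 1000000
attribute [local instance 10000] CategoryTheory.Hom.group
universe u

open CategoryTheory CategoryTheory.Limits MonoidalCategory CartesianMonoidalCategory MonObj AlgebraicGeometry

namespace Groth.ConstTorsor.Twisted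

open Groth.SGA7 Groth.AlgGrp2

variable {S : Scheme.{u}} {P M : Over S} [GrpObj P] [GrpObj M]

/-- Rigidity over a base on which the group is constant. -/
theorem rig_const [GeometricallyConnected P.hom] {c : Over S} {Z : Type u} [Group Z]
    (e : Red.bc c.hom M ≅ TwC.const c.left Z) (he : TwC.IsConstGrp Z (Red.bc c.hom M) e)
    (D : Over S) (k : D ⟶ c) (d : P ⊗ D ⟶ M)
    (hd : lift (toUnit D ≫ η[P]) (𝟙 D) ≫ d = 1) : d = 1 := by
  let T : Over c.left := Over.mk ((snd P D).left ≫ k.left)
  let T₀ : Over c.left := Over.mk k.left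
  let σ := lift (toUnit D ≫ η[P]) (𝟙 D)
  have hσ : σ ≫ snd P D = 𝟙 D := lift_snd _ _
  let σ' : T₀ ⟶ T := Over.homMk σ.left (by
    show σ.left ≫ (snd P D).left ≫ k.left = k.left
    rw [← Category.assoc, ← Over.comp_left, hσ]; exact Category.id_comp _)
  let ψ : (Over.map c.hom).obj T ⟶ P ⊗ D := Over.homMk (𝟙 _) (by
    show 𝟙 _ ≫ (P ⊗ D).hom = ((snd P D).left ≫ k.left) ≫ c.hom
    rw [Category.id_comp, Category.assoc, Over.w k, Over.w (snd P D)])
  let ψ₀ : (Over.map c.hom).obj T₀ ⟶ D := Over.homMk (𝟙 _) (by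
    show 𝟙 _ ≫ D.hom = k.left ≫ c.hom
    rw [Category.id_comp, Over.w k])
  let dd : T ⟶ Red.bc c.hom M := bcPtInv c.hom (ψ ≫ d)
  have h0 : σ' ≫ dd = 1 := by
    refine bcPt_injective c.hom ?_
    rw [bcPt_comp, bcPt_bcPtInv, bcPt_one, ← Category.assoc,
      show (Over.map c.hom).map σ' ≫ ψ = ψ₀ ≫ σ from Over.OverMorphism.ext
        ((Category.comp_id _).trans (Category.id_comp _).symm), Category.assoc, hd, MonObj.comp_one]
  have hdd : dd = 1 := by
    refine ConstPoints.ix_ext (e := e) (funext fun t => ?_)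
    rw [ConstPoints.ix_one he]
    have : GeometricallyConnected (snd P D).left :=
      inferInstanceAs (GeometricallyConnected (pullback.snd P.hom D.hom))
    let y := (snd P D).left t
    have hy : σ.left y ∈ (snd P D).left ⁻¹' {y} := by
      show (snd P D).left (σ.left y) = y
      rw [← Scheme.Hom.comp_apply, ← Over.comp_left, hσ]; rfl
    have hc := (ConstPoints.isLocallyConstant_ix (e := e) dd).apply_eq_of_isPreconnected
      ((snd P D).left.isConnected_preimage_singleton y).isPreconnected (show t ∈ _ from rfl) hy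
    rw [hc]
    have := congrArg (fun z => ConstPoints.ix e z y) h0
    simp only [ConstPoints.ix_comp, ConstPoints.ix_one he] at this
    exact this
  have h1 := congrArg (bcPt c.hom) hdd
  rw [bcPt_bcPtInv, bcPt_one] at h1
  rw [← MonObj.comp_one ψ] at h1
  refine Over.OverMorphism.ext ?_
  have := congrArg CommaMorphism.left h1
  exact (Category.id_comp _).symm.trans (this.trans (Category.id_comp _))

variable {J : Type u} {C : J → Over S} (hC : IsCover C) {Z : J → Type u} [∀ i, Group (Z i)]
  (eM : ∀ i, Red.bc (C i).hom M ≅ TwC.const (C i).left (Z i))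
  (heM : ∀ i, TwC.IsConstGrp (Z i) (Red.bc (C i).hom M) (eM i))

include hC heM in
/-- Rigidity for twisted constant groups. -/
theorem rig [GeometricallyConnected P.hom] {D : Over S} (d : P ⊗ D ⟶ M)
    (hd : lift (toUnit D ≫ η[P]) (𝟙 D) ≫ d = 1) : d = 1 := by
  refine eq_of_cover hC fun i => ?_
  rw [MonObj.comp_one]
  let D' := D ⊗ C i
  have h := rig_const (eM i) (heM i) D' (snd D (C i)) ((P ◁ fst D (C i)) ≫ d) (by
    rw [← Category.assoc, show lift (toUnit D' ≫ η[P]) (𝟙 D') ≫ (P ◁ fst D (C i)) =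
      fst D (C i) ≫ lift (toUnit D ≫ η[P]) (𝟙 D) by
        apply CartesianMonoidalCategory.hom_ext
        · simp [D']
        · simp [D'], Category.assoc, hd, MonObj.comp_one])
  have e1 : fst (P ⊗ D) (C i) = (α_ P D (C i)).hom ≫ (P ◁ fst D (C i)) := by
    apply CartesianMonoidalCategory.hom_ext <;> simp
  rw [e1, Category.assoc, h, MonObj.comp_one]

include hC heM in
/-- Homomorphisms to twisted constant groups are trivial. -/
theorem hom_eq_one [GeometricallyConnected P.hom] (φ : P ⟶ M) (hφ : η[P] ≫ φ = η[M]) : φ = 1 := by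
  have h := rig hC eM heM (D := 𝟙_ (Over S)) (fst P (𝟙_ _) ≫ φ) (by
    rw [lift_fst_assoc, Category.assoc, hφ, Hom.one_def])
  have h' := congrArg (lift (𝟙 P) (toUnit P) ≫ ·) h
  simpa only [lift_fst_assoc, Category.id_comp, MonObj.comp_one] using h'

variable {E : Over S} [GrpObj E] {u : M ⟶ E} {v : E ⟶ P}

include hC heM in
/-- Extensions by twisted constant torsion free groups split. -/
theorem exists_splitting [Smooth P.hom] [QuasiCompact P.hom] [QuasiSeparated P.hom] [GeometricallyConnected P.hom]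
    (hZ : ∀ i, ∀ z : Z i, IsOfFinOrder z → z = 1)
    (hex : NonAbH1.IsExactSeq Scheme.fppfPrecoverage u v) : ∃ s : P ⟶ E, IsMonHom s ∧ s ≫ v = 𝟙 P := by
  have := hex.1
  have := hex.2.1
  -- the sections on the pieces
  have hloc : ∀ i, ∃ a : P ⊗ C i ⟶ E, a ≫ v = fst P (C i) ∧ lift (toUnit (C i) ≫ η[P]) (𝟙 (C i)) ≫ a = 1 := by
    intro i
    let c := (C i).hom
    have : Smooth (Red.bc c P).hom := MorphismProperty.pullback_snd (P := @Smooth) _ _ ‹_›
    have : QuasiCompact (Red.bc c P).hom := MorphismProperty.pullback_snd (P := @QuasiCompact) _ _ ‹_›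
    have : QuasiSeparated (Red.bc c P).hom := MorphismProperty.pullback_snd (P := @QuasiSeparated) _ _ ‹_›
    have : GeometricallyConnected (Red.bc c P).hom :=
      MorphismProperty.pullback_snd (P := @GeometricallyConnected) _ _ ‹_›
    obtain ⟨g, hg, hge⟩ := exists_normalized (hZ i) (eM i) (heM i) _ _ (isExactSeq_bc c hex)
    let κ : P ⊗ C i ⟶ (Over.map c).obj (Red.bc c P) := Over.homMk (𝟙 _) (by
      show 𝟙 _ ≫ pullback.snd P.hom c ≫ c = pullback.fst P.hom c ≫ P.hom
      rw [Category.id_comp, pullback.condition])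
    refine ⟨κ ≫ bcPt c g, ?_, ?_⟩
    · rw [Category.assoc, ← bcPt_comp_map, hg]
      refine Over.OverMorphism.ext ?_
      show 𝟙 _ ≫ (bcPt c (𝟙 (Red.bc c P))).left = pullback.fst P.hom c
      simp [bcPt, Over.mapPullbackAdj]
    · let j : C i ⟶ (Over.map c).obj (𝟙_ (Over (C i).left)) := Over.homMk (𝟙 _) (by
        show 𝟙 _ ≫ 𝟙 _ ≫ c = c
        rw [Category.id_comp, Category.id_comp])
      have h1 : (Over.map c).map η[Red.bc c P] ≫ bcPt c (𝟙 (Red.bc c P)) = 1 := by
        rw [← bcPt_comp, Category.comp_id, ← bcPt_one c (G := P)]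
        congr 1
      have e1 : lift (toUnit (C i) ≫ η[P]) (𝟙 (C i)) ≫ κ = j ≫ (Over.map c).map η[Red.bc c P] := by
        refine Over.OverMorphism.ext ?_
        show _ ≫ 𝟙 _ = 𝟙 _ ≫ (η[Red.bc c P]).left
        rw [Category.comp_id, Category.id_comp]
        apply pullback.hom_ext
        · have ha : (lift (toUnit (C i) ≫ η[P]) (𝟙 (C i))).left ≫ pullback.fst P.hom c =
              (1 : C i ⟶ P).left := by
            rw [Hom.one_def]
            exact congrArg CommaMorphism.left (lift_fst (toUnit (C i) ≫ η[P]) (𝟙 (C i)))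
          have hb := congrArg CommaMorphism.left (congrArg (j ≫ ·) h1)
          rw [MonObj.comp_one] at hb
          rw [ha]; refine Eq.trans hb.symm ?_
          show 𝟙 _ ≫ (η[Red.bc c P]).left ≫ (bcPt c (𝟙 (Red.bc c P))).left = _
          simp [bcPt, Over.mapPullbackAdj]
          rw [pullback.lift_fst, ← pullback.condition_assoc, Category.id_comp]
        · exact (congrArg CommaMorphism.left (lift_snd (toUnit (C i) ≫ η[P]) (𝟙 (C i)))).trans
            (Over.w (η[Red.bc c P])).symm
      rw [← Category.assoc, e1, Category.assoc, ← bcPt_comp, hge]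
      have : bcPt c η[Red.bc c E] = 1 := by
        rw [← bcPt_one c (G := E)]
        congr 1
      rw [this, MonObj.comp_one]
  choose a ha hae using hloc
  -- they agree on overlaps
  have hcompat : ∀ i j, lift (fst P _) (snd P (C i ⊗ C j) ≫ fst (C i) (C j)) ≫ a i =
      lift (fst P _) (snd P (C i ⊗ C j) ≫ snd (C i) (C j)) ≫ a j := by
    intro i j
    obtain ⟨d, hd⟩ := Ext.exists_translate hex (lift (fst P _) (snd P (C i ⊗ C j) ≫ fst (C i) (C j)) ≫ a i)
      (lift (fst P _) (snd P (C i ⊗ C j) ≫ snd (C i) (C j)) ≫ a j) (by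
        rw [Category.assoc, Category.assoc, ha, ha, lift_fst, lift_fst])
    have h1 : lift (toUnit (C i ⊗ C j) ≫ η[P]) (𝟙 _) ≫ d = 1 := by
      refine Ext.u_injective hex ?_
      have h := congrArg (lift (toUnit (C i ⊗ C j) ≫ η[P]) (𝟙 _) ≫ ·) hd
      have ea : ∀ (k : J) (p : C i ⊗ C j ⟶ C k),
          lift (toUnit (C i ⊗ C j) ≫ η[P]) (𝟙 _) ≫ lift (fst P _) (snd P (C i ⊗ C j) ≫ p) ≫ a k = 1 := fun k p => by
        rw [comp_lift_assoc, lift_fst, lift_snd_assoc, Category.id_comp, show lift (toUnit (C i ⊗ C j) ≫ η[P]) p =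
          p ≫ lift (toUnit (C k) ≫ η[P]) (𝟙 (C k)) by
            rw [comp_lift, Category.comp_id, comp_toUnit_assoc], Category.assoc, hae, MonObj.comp_one]
      simp only [MonObj.comp_mul, ea, _root_.one_mul] at h
      rw [MonObj.one_comp, Category.assoc, ← h]
    rw [hd, rig hC eM heM d h1, MonObj.one_comp, _root_.mul_one]
  obtain ⟨s, hs⟩ := exists_of_cover hC a hcompat
  have hsv : s ≫ v = 𝟙 P := eq_of_cover hC fun i => by rw [← Category.assoc, hs, ha, Category.comp_id]
  have hs1 : η[P] ≫ s = η[E] := eq_of_cover hC fun i => by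
    have h := hae i
    rw [← hs i, lift_fst_assoc, Category.assoc] at h
    have h2 := congrArg (snd (𝟙_ (Over S)) (C i) ≫ ·) h
    simp only [comp_toUnit_assoc, MonObj.comp_one] at h2
    rw [toUnit_unique (fst (𝟙_ (Over S)) (C i)) (toUnit _)]
    exact h2.trans (Hom.one_def ..)
  -- multiplicativity
  obtain ⟨d, hd⟩ := Ext.exists_translate hex ((fst P P * snd P P) ≫ s) ((fst P P ≫ s) * (snd P P ≫ s)) (by
    rw [Category.assoc, hsv, Category.comp_id, MonObj.mul_comp, Category.assoc, Category.assoc, hsv, Category.comp_id,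
      Category.comp_id])
  have h1 : lift (toUnit P ≫ η[P]) (𝟙 P) ≫ d = 1 := by
    refine Ext.u_injective hex ?_
    have h := congrArg (lift (toUnit P ≫ η[P]) (𝟙 P) ≫ ·) hd
    have hη : toUnit P ≫ η[P] ≫ s = 1 := by rw [hs1, Hom.one_def]
    simp only [MonObj.comp_mul, comp_lift_assoc, lift_fst_assoc, lift_snd_assoc, ← Category.assoc (lift _ _) (fst P P * snd P P),
      lift_fst, lift_snd, Category.assoc, hη, Category.id_comp, _root_.one_mul] at h
    rw [show toUnit P ≫ η[P] = (1 : P ⟶ P) from (Hom.one_def ..).symm, _root_.one_mul, Category.id_comp] at h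
    rw [MonObj.one_comp, Category.assoc]
    exact left_eq_mul.mp h
  have hmul : (fst P P * snd P P) ≫ s = (fst P P ≫ s) * (snd P P ≫ s) := by
    rw [hd, rig hC eM heM d h1, MonObj.one_comp, _root_.mul_one]
  refine ⟨s, { one_hom := hs1, mul_hom := ?_ }, hsv⟩
  rw [Hom.mul_def, lift_fst_snd, Category.id_comp] at hmul
  rw [hmul, Hom.mul_def]
  congr 1

end Groth.ConstTorsor.Twisted
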